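import Cfsg.Agent.Walter.Setting
import Cfsg.Agent.Components.PTerminal.Tools
import Cfsg.Prelude.Def_TwoFusion

/-!
Goldschmidt's theorem on strongly closed abelian 2-subgroups (S1169): the configuration, the local facts and the
interfaces between the pieces (`notes/goldschmidt_spec_h1.md`).
-/

set_option autoImplicit false
set_option linter.unusedSectionVars false

namespace Cfsg.Lib.Goldschmidt

open Subgroup Cfsg.Lib.Components
open Cfsg.Lib.Walter (IsComp Triv Oc)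

universe u

/-- What is known of the smaller simple groups. -/
def TypedX (X : Type u) [Group X] [Finite X] : Prop :=
  Walter.AbTwo X ∨ ∃ H : Subgroup X, Cfsg.IsStronglyEmbedded H

/-- The theorem below a given order. -/
def Below (n : ℕ) : Prop :=
  ∀ (X : Type u) [Group X] [Finite X] [IsSimpleGroup X], ¬ IsMulCommutative X →
    ∀ (S : Sylow 2 X) (A : Subgroup X), A ≠ ⊥ → (∀ x ∈ A, ∀ y ∈ A, x * y = y * x) →
      Cfsg.IsStronglyClosed A (S : Subgroup X) → Nat.card X < n → TypedX X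

variable {G : Type u} [Group G] [Finite G]

/-- The configuration of the induction step: `A` is a minimal strongly closed elementary abelian subgroup. -/
structure Min (S : Sylow 2 G) (A : Subgroup G) : Prop where
  simple : IsSimpleGroup G
  nonab : ¬ IsMulCommutative G
  sylow : ¬ IsMulCommutative ↥(S : Subgroup G)
  below : Below.{u} (Nat.card G)
  closed : Cfsg.IsStronglyClosed A (S : Subgroup G)
  sq : ∀ x ∈ A, x * x = 1
  comm : ∀ x ∈ A, ∀ y ∈ A, x * y = y * x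
  minimal : ∀ B : Subgroup G, B ≤ A → B ≠ ⊥ → Cfsg.IsStronglyClosed B (S : Subgroup G) → B = A
  four : 4 ≤ Nat.card A

/-- `Z_L`: the elements of `A` centralising `L` modulo `O(C(a))`. -/
def ZA (A : Subgroup G) (a : G) (L : Subgroup G) : Subgroup G :=
  A ⊓ PTerminal.Cent 2 (centralizer ({a} : Set G)) L

/-- A 2-component of `C(a)` moved by `A`. -/
def Moved (A : Subgroup G) (a : G) (L : Subgroup G) : Prop :=
  a ∈ A ∧ a ≠ 1 ∧ IsComp a L ∧ ¬ A ≤ ZA A a L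

/-- Balance fails at `L`. -/
def Unbal (A : Subgroup G) (a : G) (L : Subgroup G) : Prop :=
  ∃ b ∈ A, b ≠ 1 ∧ ∃ x ∈ Oc b, x ∈ centralizer ({a} : Set G) ∧ ¬ Triv a L x

/-- A moved component whose `Z_L` cannot be shrunk by passing to another centraliser. -/
def Terminal (A : Subgroup G) (a : G) (L : Subgroup G) : Prop :=
  Moved A a L ∧ ∀ {b K}, Moved A b K → b ∈ ZA A a L → ZA A b K ≤ ZA A a L → ZA A b K = ZA A a L

/-- The local facts proved from the induction hypothesis. -/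
structure Local (A : Subgroup G) : Prop where
  le_norm : ∀ {a L}, a ∈ A → a ≠ 1 → IsComp a L → A ≤ normalizer (L : Set G)
  sup : ∀ {a L}, Moved A a L → ZA A a L ⊔ (A ⊓ L) = A
  index : ∀ {a L}, Moved A a L → 4 ≤ (ZA A a L).relIndex A
  -- different components centralise each other
  other : ∀ {a L L'}, Moved A a L → Moved A a L' → L ≠ L' → A ⊓ L' ≤ ZA A a L
  -- `N_L(A)` contains an element regular on `A / Z_L`
  rot : ∀ {a L}, Moved A a L → ∃ r ∈ L, r ∈ normalizer (A : Set G) ∧ Odd (orderOf r) ∧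
    (∀ x ∈ A, ∀ y ∈ A, x ∉ ZA A a L → y ∉ ZA A a L → ∃ k : ℕ, (r ^ k * x * (r ^ k)⁻¹)⁻¹ * y ∈ ZA A a L) ∧
    (∀ k : ℕ, ∀ x ∈ A, x ∉ ZA A a L → r ^ k * x * (r ^ k)⁻¹ = x → ∀ y ∈ A, r ^ k * y * (r ^ k)⁻¹ = y) ∧
    ∀ g ∈ L, g ∈ normalizer (A : Set G) →
      (∃ k : ℕ, ∀ x ∈ A, (g * x * g⁻¹)⁻¹ * (r ^ k * x * (r ^ k)⁻¹) ∈ ZA A a L) ∨
        -- Janko–Ree: the image is `7:3`
        ((ZA A a L).relIndex A = 8 ∧ ∀ x ∈ A, (g ^ 3 * x * (g ^ 3)⁻¹)⁻¹ * x ∈ ZA A a L)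
  -- the elements of `N_L(A)` trivial on `A / Z_L`
  shear : ∀ {a L g}, Moved A a L → g ∈ L → g ∈ normalizer (A : Set G) →
    (∀ x ∈ A, g * x * g⁻¹ * x⁻¹ ∈ ZA A a L) →
    (∃ x ∈ A, x ∉ ZA A a L ∧ g * x = x * g) ∧ ((ZA A a L).relIndex A = 4 → ∀ x ∈ A, g * x = x * g)
  -- L-balance along `Z_L`
  lift : ∀ {a L b}, Moved A a L → b ∈ ZA A a L → b ≠ 1 →
    ∃ K, Moved A b K ∧ ZA A b K ≤ ZA A a L ∧
      L ⊓ centralizer ({b} : Set G) ≤ K ⊔ Oc b ⊔ (Oc a ⊓ centralizer ({b} : Set G))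
  -- the centraliser of an element of `A`
  generated : ∀ {a}, a ∈ A → a ≠ 1 → centralizer ({a} : Set G) ≤
    (Oc a ⊔ ⨆ L : {L : Subgroup G // Moved A a L}, (L : Subgroup G)) ⊔
      (normalizer (A : Set G) ⊓ centralizer ({a} : Set G))
  bal : ∀ {a L b x}, Moved A a L → b ∈ ZA A a L → b ≠ 1 →
    x ∈ Oc b → x ∈ centralizer ({a} : Set G) → Triv a L x
  -- unbalanced components have type `PSL(2, q)`, `q ≡ 3, 5 (mod 8)`, `q > 5`
  unbal_four : ∀ {a L}, Moved A a L → Unbal A a L → (ZA A a L).relIndex A = 4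
  unbal_gen : ∀ {a L}, Moved A a L → Unbal A a L →
    L ≤ Oc a ⊔ ⨆ v : {v : G // v ∈ A ∧ v ∉ ZA A a L}, L ⊓ centralizer ({(v : G)} : Set G)
  unbal_inner : ∀ {a L g}, Moved A a L → Unbal A a L → g ∈ centralizer (A : Set G) →
    g ∈ normalizer (L : Set G) → (∃ k : ℕ, orderOf g = 2 ^ k) →
    ∃ v ∈ A, v⁻¹ * g ∈ PTerminal.Cent 2 (centralizer ({a} : Set G)) L
  -- faithfulness on the moved components
  faith : ∀ {a b x}, a ∈ A → a ≠ 1 → b ∈ A → b ≠ 1 →
    x ∈ Oc b → x ∈ centralizer ({a} : Set G) → (∀ L, Moved A a L → Triv a L x) → x ∈ Oc a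

/-- The subgroup generated by the centralisers of the involutions of `A` is proper. -/
def Proper (A : Subgroup G) : Prop :=
  (⨆ t : {t : G // t ∈ A ∧ orderOf t = 2}, centralizer ({(t : G)} : Set G)) ≠ ⊤

/-- The branch of rank three. -/
structure Three (S : Sylow 2 G) (A : Subgroup G) : Prop where
  card : Nat.card A = 8
  cent : (S : Subgroup G) ≤ centralizer (A : Set G)
  trans : ∀ x ∈ A, ∀ y ∈ A, x ≠ 1 → y ≠ 1 → ∃ g ∈ normalizer (A : Set G), g * x * g⁻¹ = y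
  exists_comp : ∀ a ∈ A, a ≠ 1 → ∃ L, Moved A a L
  unique : ∀ {a L L'}, Moved A a L → Moved A a L' → L = L'
  zA : ∀ {a L}, Moved A a L → ZA A a L = zpowers a

/-- The other branch: every moved component is far from critical and the terminal ones form one class. -/
structure Classed (A : Subgroup G) : Prop where
  big : ∀ {a L}, Moved A a L → 16 ≤ Nat.card ↥(ZA A a L)
  meet : ∀ {a L a' L'}, Terminal A a L → Terminal A a' L' → ZA A a L ⊓ ZA A a' L' ≠ ⊥

/-- RLIN: an irreducible group with a TI subspace whose stabiliser normalises a group regular on the quotient. -/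
def RLINSpec : Prop :=
  ∀ (V : Type u) [CommGroup V] [Finite V] (R E : Subgroup (MulAut V)) (Z : Subgroup V),
    (∀ v : V, v * v = 1) → (∀ U : Subgroup V, (∀ g ∈ R, ∀ v ∈ U, g v ∈ U) → U = ⊥ ∨ U = ⊤) →
    Z ≠ ⊥ → 4 ≤ Z.index → E ≤ R → (∀ e ∈ E, ∀ z ∈ Z, e z = z) →
    (∀ g ∈ R, (∀ z ∈ Z, g z ∈ Z) ∨ ∀ z ∈ Z, g z ∈ Z → z = 1) →
    (∀ g ∈ R, (∀ z ∈ Z, g z ∈ Z) → ∀ e ∈ E, g * e * g⁻¹ ∈ E) →
    (∀ v w : V, v ∉ Z → w ∉ Z → ∃ e ∈ E, (e v)⁻¹ * w ∈ Z) →
    (∀ e ∈ E, ∀ f ∈ E, ∀ v, (e (f v))⁻¹ * f (e v) ∈ Z) →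
    (∀ e ∈ E, ∀ v, v ∉ Z → (e v)⁻¹ * v ∈ Z → ∀ w, (e w)⁻¹ * w ∈ Z) →
    (∀ e ∈ E, (∀ w, (e w)⁻¹ * w ∈ Z) → (∃ v, v ∉ Z ∧ e v = v) ∧ (Z.index = 4 → e = 1)) →
    (Nat.card V = 8 ∧ Odd (Nat.card R)) ∨
      ∃ H : Subgroup V, Z ⊓ H = ⊥ ∧ Z ⊔ H = ⊤ ∧ Nat.card H = Nat.card Z ∧
        ∀ g ∈ R, (∀ z ∈ Z, g z ∈ Z) ∨ ∀ z ∈ Z, g z ∈ H

/-- S1: the local facts. -/
def LocalSpec (G : Type u) [Group G] [Finite G] : Prop :=
  ∀ (S : Sylow 2 G) (A : Subgroup G), Min S A → Local A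

/-- A component whose `Z_L` has two conjugates only does not occur. -/
def TwoBlockSpec (G : Type u) [Group G] [Finite G] : Prop :=
  ∀ (S : Sylow 2 G) (A : Subgroup G), Min S A → Local A → ∀ a L, Terminal A a L → ∀ H : Subgroup G, H ≤ A →
    ZA A a L ⊓ H = ⊥ → ZA A a L ⊔ H = A → Nat.card H = Nat.card ↥(ZA A a L) →
    (∀ g ∈ normalizer (A : Set G),
      (ZA A a L).map (MulAut.conj g).toMonoidHom = ZA A a L ∨ (ZA A a L).map (MulAut.conj g).toMonoidHom = H) → False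

/-- The rank three branch from RLIN. -/
def ThreeClassSpec (G : Type u) [Group G] [Finite G] : Prop :=
  RLINSpec.{u} → ∀ (S : Sylow 2 G) (A : Subgroup G), Min S A → Local A → Nat.card A = 8 →
    (∃ a L, Moved A a L) → Three S A

/-- The big branch from RLIN and the two-block kill. -/
def ClassSpec (G : Type u) [Group G] [Finite G] : Prop :=
  RLINSpec.{u} → TwoBlockSpec G → ∀ (S : Sylow 2 G) (A : Subgroup G), Min S A → Local A →
    16 ≤ Nat.card A → Classed A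

/-- Signalizer functor and terminal components. -/
def BigSpec (G : Type u) [Group G] [Finite G] : Prop :=
  ∀ (S : Sylow 2 G) (A : Subgroup G), Min S A → Local A → 8 ≤ Nat.card A → Classed A → Proper A

/-- RUNB (a). -/
def ThreeUnbalSpec (G : Type u) [Group G] [Finite G] : Prop :=
  ∀ (S : Sylow 2 G) (A : Subgroup G), Min S A → Local A → Three S A →
    (∃ a L, Moved A a L ∧ Unbal A a L) → Proper A

/-- The critical case. -/
def ThreeCritSpec (G : Type u) [Group G] [Finite G] : Prop :=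
  ∀ (S : Sylow 2 G) (A : Subgroup G), Min S A → Local A → Three S A →
    (∀ a L, Moved A a L → ¬ Unbal A a L) → Proper A

/-- R2: rank two. -/
def RankTwoSpec (G : Type u) [Group G] [Finite G] : Prop :=
  ∀ (S : Sylow 2 G) (A : Subgroup G), Min S A → Local A → Nat.card A = 4 → Proper A

end Cfsg.Lib.Goldschmidt
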