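import Cfsg.Agent.Goldschmidt.Setting
import Cfsg.Agent.InvolCalc.ZStarApps

/-!
Fusion in the configuration: `A` is the only conjugate of itself in a Sylow subgroup, `N(A)` controls fusion in
`A` and is irreducible on it.
-/

set_option autoImplicit false
set_option linter.unusedSectionVars false
set_option linter.style.haveILetI false

namespace Cfsg.Lib.Goldschmidt

open Subgroup

universe u

variable {G : Type u} [Group G] [Finite G] {S : Sylow 2 G} {A : Subgroup G}

theorem sylow_le_normalizer (hc : Cfsg.IsStronglyClosed A (S : Subgroup G)) :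
    (S : Subgroup G) ≤ normalizer (A : Set G) := fun s hs =>
  ZStarApps.mem_normalizer_of_maps fun a ha =>
    hc.2 a ha s (mul_mem (mul_mem hs (hc.1 ha)) (inv_mem hs))

theorem mem_normalizer_of_le (hc : Cfsg.IsStronglyClosed A (S : Subgroup G)) {g : G}
    (h : ∀ a ∈ A, g * a * g⁻¹ ∈ (S : Subgroup G)) : g ∈ normalizer (A : Set G) :=
  ZStarApps.mem_normalizer_of_maps fun a ha => hc.2 a ha g (h a ha)

/-- `N(A)` controls fusion in `A`. -/
theorem fusion (hc : Cfsg.IsStronglyClosed A (S : Subgroup G)) (hcomm : ∀ x ∈ A, ∀ y ∈ A, x * y = y * x)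
    {x g : G} (hx : x ∈ A) (hy : g * x * g⁻¹ ∈ A) :
    ∃ n ∈ normalizer (A : Set G), n * x * n⁻¹ = g * x * g⁻¹ := by
  haveI : Fact (Nat.Prime 2) := ⟨Nat.prime_two⟩
  set y := g * x * g⁻¹ with hydef
  set C := centralizer ({y} : Set G)
  have hAC : A ≤ C := fun a ha => mem_centralizer_singleton_iff.2 (hcomm a ha y hy)
  set B := A.map (MulAut.conj g).toMonoidHom
  have hBC : B ≤ C := by
    rintro _ ⟨a, ha, rfl⟩
    refine mem_centralizer_singleton_iff.2 ?_
    show g * a * g⁻¹ * y = y * (g * a * g⁻¹)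
    rw [hydef, _root_.conj_mul, _root_.conj_mul, hcomm a ha x hx]
  have hA2 : IsPGroup 2 A := S.2.to_le hc.1
  obtain ⟨T, hT⟩ := (hA2.of_equiv (subgroupOfEquivOfLe hAC).symm).exists_le_sylow
  obtain ⟨T', hT'⟩ := ((hA2.map (MulAut.conj g).toMonoidHom).of_equiv
    (subgroupOfEquivOfLe hBC).symm).exists_le_sylow
  obtain ⟨c, hcT⟩ := MulAction.exists_smul_eq C T' T
  obtain ⟨R, hR⟩ := (T.2.map C.subtype).exists_le_sylow
  obtain ⟨h, hh⟩ := MulAction.exists_smul_eq G R S
  have hmap : ∀ r ∈ R, h * r * h⁻¹ ∈ (S : Subgroup G) := fun r hr => by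
    rw [← hh, Sylow.coe_subgroup_smul]
    exact ⟨r, hr, rfl⟩
  have hhN : h ∈ normalizer (A : Set G) := mem_normalizer_of_le hc fun a ha =>
    hmap a (hR ⟨⟨a, hAC ha⟩, hT ha, rfl⟩)
  have hN : h * c * g ∈ normalizer (A : Set G) := mem_normalizer_of_le hc fun a ha => by
    rw [show h * c * g * a * (h * c * g)⁻¹ = h * (c * (g * a * g⁻¹) * (c : G)⁻¹) * h⁻¹ by group]
    refine hmap _ (hR ?_)
    have hb : g * a * g⁻¹ ∈ B := ⟨a, ha, rfl⟩
    refine ⟨c * ⟨g * a * g⁻¹, hBC hb⟩ * c⁻¹, ?_, rfl⟩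
    rw [← hcT, Sylow.coe_subgroup_smul]
    exact ⟨⟨g * a * g⁻¹, hBC hb⟩, hT' hb, rfl⟩
  refine ⟨c * g, ?_, ?_⟩
  · have := mul_mem (inv_mem hhN) hN
    rwa [show h⁻¹ * (h * c * g) = c * g by group] at this
  · calc (c : G) * g * x * (c * g)⁻¹ = c * y * (c : G)⁻¹ := by rw [hydef]; group
      _ = y := by rw [mem_centralizer_singleton_iff.1 c.2, mul_inv_cancel_right]

/-- A normalised subgroup of `A` is strongly closed. -/
theorem closed_of_invariant (hc : Cfsg.IsStronglyClosed A (S : Subgroup G))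
    (hcomm : ∀ x ∈ A, ∀ y ∈ A, x * y = y * x) {B : Subgroup G} (hB : B ≤ A)
    (hn : normalizer (A : Set G) ≤ normalizer (B : Set G)) : Cfsg.IsStronglyClosed B (S : Subgroup G) :=
  ⟨hB.trans hc.1, fun x hx g hg => by
    obtain ⟨n, hn', e⟩ := fusion hc hcomm (hB hx) (hc.2 x (hB hx) g hg)
    exact e ▸ (mem_normalizer_iff.1 (hn hn') x).1 hx⟩

namespace Min

variable (h : Min S A)
include h

theorem le : A ≤ (S : Subgroup G) := h.closed.1

theorem ne_bot : A ≠ ⊥ := fun e => by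
  have := h.four
  rw [e, card_bot] at this
  omega

theorem ord_two {x : G} (hx : x ∈ A) (h1 : x ≠ 1) : orderOf x = 2 :=
  orderOf_eq_prime (by rw [pow_two, h.sq x hx]) h1

theorem elemAb : Cfsg.IsElementaryAbelian 2 A :=
  ⟨⟨⟨fun a b => Subtype.ext (h.comm a a.2 b b.2)⟩⟩, fun a ha => by rw [pow_two]; exact h.sq a ha⟩

theorem le_cent {a : G} (ha : a ∈ A) : A ≤ centralizer ({a} : Set G) := fun x hx =>
  mem_centralizer_singleton_iff.2 (h.comm x hx a ha)

/-- `N(A)` is irreducible on `A`. -/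
theorem invariant_eq {B : Subgroup G} (hB : B ≤ A) (hn : normalizer (A : Set G) ≤ normalizer (B : Set G)) :
    B = ⊥ ∨ B = A :=
  (em (B = ⊥)).imp_right fun hne => h.minimal B hB hne (closed_of_invariant h.closed h.comm hB hn)

theorem mem_proper {a : G} (ha : a ∈ A) (h1 : a ≠ 1) :
    centralizer ({a} : Set G) ≤ ⨆ t : {t : G // t ∈ A ∧ orderOf t = 2}, centralizer ({(t : G)} : Set G) :=
  le_iSup (fun t : {t : G // t ∈ A ∧ orderOf t = 2} => centralizer ({(t : G)} : Set G)) ⟨a, ha, h.ord_two ha h1⟩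

/-- A proper overgroup of all the centralisers. -/
theorem proper_of_le {M : Subgroup G} (hM : M ≠ ⊤)
    (hle : ∀ a ∈ A, a ≠ 1 → centralizer ({a} : Set G) ≤ M) : Proper A := fun e =>
  hM (top_le_iff.1 (e ▸ iSup_le fun t => hle t t.2.1 fun e1 => by
    have := t.2.2
    rw [e1, orderOf_one] at this
    omega))

end Min

end Cfsg.Lib.Goldschmidt
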