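import Cfsg.Agent.Goldschmidt.Assembly
import Cfsg.Agent.Goldschmidt.S1.Local
import Cfsg.Agent.Goldschmidt.Rlin.Spec
import Cfsg.Agent.Goldschmidt.TwoBlock.Main
import Cfsg.Agent.Goldschmidt.Class.Three
import Cfsg.Agent.Goldschmidt.Class.Main
import Cfsg.Agent.Goldschmidt.Three.Functor
import Cfsg.Agent.Goldschmidt.Big.Main
import Cfsg.Agent.Goldschmidt.RankTwo.Main
import Cfsg.Agent.Goldschmidt.Consequences.Setting

/-!
All pieces of Goldschmidt's theorem on strongly closed abelian 2-subgroups.
-/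

set_option autoImplicit false

namespace Cfsg.Lib.Goldschmidt

universe u

theorem specs (G : Type u) [Group G] [Finite G] : Specs G :=
  ⟨localSpec, rlinSpec, twoBlockSpec G, threeClassSpec, classSpec G, Big.bigSpec,
    R3.threeUnbalSpec, R3.threeCritSpec, RankTwo.rankTwoSpec⟩

/-- S1169. -/
theorem goldProp : GoldProp.{u} := fun _ _ _ _ S A hA hcomm hsc =>
  main_of_specs (fun G _ _ => specs G) S A hA hcomm hsc

end Cfsg.Lib.Goldschmidt
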