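import Cfsg.Agent.Goldschmidt.Fusion
import Cfsg.Agent.S1174

/-!
Goldschmidt's theorem from the pieces, by induction on the order.
-/

set_option autoImplicit false
set_option linter.unusedSectionVars false
set_option linter.style.haveILetI false

namespace Cfsg.Lib.Goldschmidt

open Subgroup

universe u

/-- All pieces for one group. -/
structure Specs (G : Type u) [Group G] [Finite G] : Prop where
  loc : LocalSpec G
  rlin : RLINSpec.{u}
  twoBlock : TwoBlockSpec G
  threeClass : ThreeClassSpec G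
  cls : ClassSpec G
  big : BigSpec G
  threeUnbal : ThreeUnbalSpec G
  threeCrit : ThreeCritSpec G
  rankTwo : RankTwoSpec G

variable {G : Type u} [Group G] [Finite G] {S : Sylow 2 G} {A : Subgroup G}

theorem Min.card_eight (h : Min S A) (h4 : Nat.card A ≠ 4) : 8 ≤ Nat.card A := by
  haveI : Fact (Nat.Prime 2) := ⟨Nat.prime_two⟩
  obtain ⟨m, hm⟩ := IsPGroup.iff_card.1 (S.2.to_le h.le)
  have h0 := h.four
  rw [hm] at h0 h4 ⊢
  have h3 : 3 ≤ m := by
    by_contra hlt
    push Not at hlt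
    interval_cases m <;> simp_all
  exact le_trans (by norm_num) (Nat.pow_le_pow_right two_pos h3)

theorem proper_of_min (p : Specs G) (h : Min S A) : Proper A := by
  haveI : Fact (Nat.Prime 2) := ⟨Nat.prime_two⟩
  have hL := p.loc S A h
  by_cases h4 : Nat.card A = 4
  · exact p.rankTwo S A h hL h4
  have h8 := h.card_eight h4
  by_cases hcase : Nat.card A = 8
  · by_cases hex : ∃ a L, Moved A a L
    · have hT := p.threeClass p.rlin S A h hL hcase hex
      by_cases hu : ∃ a L, Moved A a L ∧ Unbal A a L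
      · exact p.threeUnbal S A h hL hT hu
      · push Not at hu
        exact p.threeCrit S A h hL hT hu
    · push Not at hex
      refine p.big S A h hL h8 ⟨fun {a L} hm => absurd hm (hex a L), fun {a L a' L'} ht _ => ?_⟩
      exact absurd ht.1 (hex a L)
  obtain ⟨m, hm⟩ := IsPGroup.iff_card.1 (S.2.to_le h.le)
  have h16 : 16 ≤ Nat.card A := by
    rw [hm] at h8 hcase ⊢
    have h4' : 4 ≤ m := by
      by_contra hlt
      push Not at hlt
      interval_cases m <;> simp_all
    exact le_trans (by norm_num) (Nat.pow_le_pow_right two_pos h4')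
  exact p.big S A h hL h8 (p.cls p.rlin p.twoBlock S A h hL h16)

theorem embedded_of_min (p : Specs G) (h : Min S A) : ∃ H : Subgroup G, Cfsg.IsStronglyEmbedded H :=
  haveI := h.simple
  Cfsg.Agent.S1174.result S A h.ne_bot h.closed (proper_of_min p h)

theorem card_four_le [IsSimpleGroup G] (hna : ¬ IsMulCommutative G) (hA : A ≠ ⊥)
    (hsq : ∀ x ∈ A, x * x = 1) (hc : Cfsg.IsStronglyClosed A (S : Subgroup G)) : 4 ≤ Nat.card A := by
  haveI : Fact (Nat.Prime 2) := ⟨Nat.prime_two⟩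
  obtain ⟨m, hm⟩ := IsPGroup.iff_card.1 (S.2.to_le hc.1)
  by_contra h4
  obtain ⟨z, hzA, hz1⟩ := (bot_or_exists_ne_one A).resolve_left hA
  have hz : orderOf z = 2 := orderOf_eq_prime (by rw [pow_two, hsq z hzA]) hz1
  have huniq : ∀ y ∈ A, y ≠ 1 → y = z := by
    intro y hy hy1
    by_contra hne
    refine h4 (le_trans (by norm_num : 4 ≤ 2 ^ 2) ?_)
    rw [hm]
    refine Nat.pow_le_pow_right two_pos ?_
    by_contra hlt
    have h3 : 3 ≤ Nat.card A := by
      have h := Nat.card_le_card_of_injective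
        (f := fun i : Fin 3 => (![⟨1, one_mem A⟩, ⟨z, hzA⟩, ⟨y, hy⟩] i : A)) (by
          intro i j e
          fin_cases i <;> fin_cases j <;> simp_all [Subtype.ext_iff, eq_comm])
      simpa using h
    rw [hm] at h3
    interval_cases m <;> norm_num at h3
  have hiso : Cfsg.IsIsolatedInvolution z := by
    refine ⟨hz, fun g hcm => ?_⟩
    set w := g * z * g⁻¹ with hw
    have hp : IsPGroup 2 (zpowers z) := IsPGroup.of_card (n := 1) (by rw [Nat.card_zpowers, hz, pow_one])
    have hp' : IsPGroup 2 (zpowers w) := IsPGroup.of_card (n := 1)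
      (by rw [Nat.card_zpowers, hw, show g * z * g⁻¹ = MulAut.conj g z from rfl, MulEquiv.orderOf_eq, hz, pow_one])
    have hn : zpowers w ≤ normalizer ((zpowers z : Subgroup G) : Set G) := zpowers_le.2
      (centralizer_le_normalizer _ (mem_centralizer_iff.2 fun y hy => by
        obtain ⟨k, rfl⟩ := mem_zpowers_iff.1 hy
        exact (hcm.zpow_left k).eq))
    obtain ⟨R, hR⟩ := (hp.to_sup_of_normal_left' hp' hn).exists_le_sylow
    obtain ⟨h, hh⟩ := MulAction.exists_smul_eq G R S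
    have key : ∀ (g' : G), h * (g' * z * g'⁻¹) * h⁻¹ ∈ (S : Subgroup G) → h * (g' * z * g'⁻¹) * h⁻¹ = z := by
      intro g' hmem
      have e : h * (g' * z * g'⁻¹) * h⁻¹ = h * g' * z * (h * g')⁻¹ := by group
      rw [e] at hmem ⊢
      refine huniq _ (hc.2 z hzA _ hmem) fun e1 => hz1 ?_
      exact conj_eq_one_iff.1 e1
    have hmap : ∀ r ∈ R, h * r * h⁻¹ ∈ (S : Subgroup G) := fun r hr => by
      rw [← hh, Sylow.coe_subgroup_smul]
      exact ⟨r, hr, rfl⟩
    have h1 := key 1 (by simpa using hmap z (hR (mem_sup_left (mem_zpowers z))))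
    have h2 := key g (hmap w (hR (mem_sup_right (mem_zpowers w))))
    rw [one_mul, inv_one, mul_one] at h1
    exact mul_left_cancel (mul_right_cancel (h2.trans h1.symm))
  haveI : (Cfsg.pPrimeCore 2 G).Normal := Cfsg.Lib.Components.normal_of_mem_sSup_normal fun _ h => h.1
  have hO : Cfsg.pPrimeCore 2 G = ⊥ := by
    refine (IsSimpleGroup.eq_bot_or_eq_top_of_normal _ inferInstance).resolve_right fun e => ?_
    have hodd := ZStarApps.odd_card_pPrimeCore (G := G)
    rw [e, card_top] at hodd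
    exact Nat.not_even_iff_odd.2 hodd (even_iff_two_dvd.2 (hz ▸ orderOf_dvd_natCard z))
  have hzc : z ∈ center G := mem_center_iff.2 fun g => by
    have h := ZStarApps.zstarProp hiso g
    rw [hO, mem_bot, mul_inv_eq_one, mul_inv_eq_iff_eq_mul] at h
    exact h.symm
  rcases IsSimpleGroup.eq_bot_or_eq_top_of_normal (center G) inferInstance with e | e
  · exact hz1 (mem_bot.1 (e ▸ hzc))
  · exact hna ⟨⟨fun a b => mem_center_iff.1 (e ▸ mem_top b) a⟩⟩

/-- A minimal strongly closed elementary subgroup inside a given abelian one. -/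
theorem exists_minimal (hA : A ≠ ⊥) (hcomm : ∀ x ∈ A, ∀ y ∈ A, x * y = y * x)
    (hc : Cfsg.IsStronglyClosed A (S : Subgroup G)) :
    ∃ B : Subgroup G, B ≠ ⊥ ∧ (∀ x ∈ B, x * x = 1) ∧ (∀ x ∈ B, ∀ y ∈ B, x * y = y * x) ∧
      Cfsg.IsStronglyClosed B (S : Subgroup G) ∧
      ∀ C : Subgroup G, C ≤ B → C ≠ ⊥ → Cfsg.IsStronglyClosed C (S : Subgroup G) → C = B := by
  haveI : Fact (Nat.Prime 2) := ⟨Nat.prime_two⟩
  let W : Subgroup G :=
    { carrier := {y | y ∈ A ∧ y * y = 1}
      one_mem' := ⟨one_mem _, one_mul 1⟩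
      mul_mem' := fun {a b} ha hb => ⟨mul_mem ha.1 hb.1, by
        rw [(show Commute b a from hcomm b hb.1 a ha.1).mul_mul_mul_comm, ha.2, hb.2, one_mul]⟩
      inv_mem' := fun {a} ha => ⟨inv_mem ha.1, by rw [← mul_inv_rev, ha.2, inv_one]⟩ }
  have hWne : W ≠ ⊥ := by
    obtain ⟨m, hm⟩ := IsPGroup.iff_card.1 (S.2.to_le hc.1)
    have hm1 : m ≠ 0 := fun e => hA (Subgroup.eq_bot_of_card_eq A (by rw [hm, e, pow_zero]))
    obtain ⟨x, hx⟩ := exists_prime_orderOf_dvd_card' 2 (hm ▸ dvd_pow_self 2 hm1 : 2 ∣ Nat.card A)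
    intro e
    have hxW : (x : G) ∈ W := ⟨x.2, by
      rw [← pow_two]
      have h := pow_orderOf_eq_one x
      rw [hx] at h
      exact congrArg Subtype.val h⟩
    rw [e, mem_bot] at hxW
    rw [show x = 1 from Subtype.ext hxW, orderOf_one] at hx
    omega
  have hWc : Cfsg.IsStronglyClosed W (S : Subgroup G) := ⟨fun y hy => hc.1 hy.1, fun x hx g hg =>
    ⟨hc.2 x hx.1 g hg, by rw [_root_.conj_mul, hx.2, mul_one, mul_inv_cancel]⟩⟩
  obtain ⟨B, ⟨hBW, hB1, hBc⟩, hmin⟩ := Set.exists_min_image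
    {B : Subgroup G | B ≤ W ∧ B ≠ ⊥ ∧ Cfsg.IsStronglyClosed B (S : Subgroup G)}
    (fun B => Nat.card B) (Set.toFinite _) ⟨W, le_rfl, hWne, hWc⟩
  exact ⟨B, hB1, fun x hx => (hBW hx).2, fun x hx y hy => hcomm x (hBW hx).1 y (hBW hy).1, hBc,
    fun C hC hC1 hCc => Subgroup.eq_of_le_of_card_ge hC (hmin C ⟨hC.trans hBW, hC1, hCc⟩)⟩

theorem main_below (p : ∀ (G : Type u) [Group G] [Finite G], Specs G) : ∀ n, Below.{u} n := by
  intro n
  induction n with
  | zero => exact fun _ _ _ _ _ _ _ _ _ _ hlt => absurd hlt (Nat.not_lt_zero _)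
  | succ n ih =>
    intro X _ _ _ nab S A hA hcomm hc hlt
    rcases Nat.lt_succ_iff_lt_or_eq.1 hlt with hlt' | heq
    · exact ih X nab S A hA hcomm hc hlt'
    by_cases hS : IsMulCommutative ↥(S : Subgroup X)
    · left
      intro T x hx y hy
      haveI : Fact (Nat.Prime 2) := ⟨Nat.prime_two⟩
      obtain ⟨g, hg⟩ := MulAction.exists_smul_eq X S T
      rw [← hg] at hx hy
      obtain ⟨a, ha, rfl⟩ := hx
      obtain ⟨b, hb, rfl⟩ := hy
      show MulAut.conj g a * MulAut.conj g b = MulAut.conj g b * MulAut.conj g a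
      rw [← map_mul, ← map_mul, show a * b = b * a from congrArg Subtype.val (hS.is_comm.comm ⟨a, ha⟩ ⟨b, hb⟩)]
    obtain ⟨B, hB1, hsq, hBcomm, hBc, hmin⟩ := exists_minimal hA hcomm hc
    exact Or.inr (embedded_of_min (p X) (S := S) (A := B) ⟨inferInstance, nab, hS, heq ▸ ih, hBc, hsq, hBcomm, hmin,
      card_four_le nab hB1 hsq hBc⟩)

/-- S1169 from the pieces. -/
theorem main_of_specs (p : ∀ (G : Type u) [Group G] [Finite G], Specs G) {G : Type u} [Group G] [Finite G]
    [IsSimpleGroup G] (S : Sylow 2 G) (A : Subgroup G) (hA : A ≠ ⊥) (hAcomm : IsMulCommutative A)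
    (hsc : Cfsg.IsStronglyClosed A (S : Subgroup G)) :
    IsMulCommutative (S : Subgroup G) ∨ ∃ H : Subgroup G, Cfsg.IsStronglyEmbedded H := by
  by_cases hG : IsMulCommutative G
  · exact Or.inl ⟨⟨fun a b => Subtype.ext (hG.is_comm.comm (a : G) b)⟩⟩
  rcases main_below p (Nat.card G + 1) G hG S A hA
      (fun x hx y hy => congrArg Subtype.val (hAcomm.is_comm.comm ⟨x, hx⟩ ⟨y, hy⟩)) hsc (Nat.lt_succ_self _) with h | h
  · exact Or.inl ⟨⟨fun a b => Subtype.ext (h S a a.2 b b.2)⟩⟩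
  · exact Or.inr h

end Cfsg.Lib.Goldschmidt
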